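import Cfsg.Agent.Lib.Local.SubBlock.Basic
import Cfsg.Agent.Lib.Local.Gaschutz

/-!
# Blocks under automorphisms
-/

set_option autoImplicit false

namespace Cfsg.Lib.Local.SubBlock

open Subgroup Cfsg Cfsg.Lib Cfsg.Lib.Local.GlaubermanZJ Cfsg.Lib.Local.BaumannBlock
open scoped commutatorElement MatrixGroups

universe u

variable {G : Type u} [Group G] {p : ℕ} (φ : G ≃* G)

theorem map_map_symm (H : Subgroup G) :
    (H.map φ.toMonoidHom).map φ.symm.toMonoidHom = H := by
  rw [Subgroup.map_map]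
  convert Subgroup.map_id H
  ext x
  exact φ.symm_apply_apply x

theorem map_centralizer_equiv (H : Subgroup G) :
    (centralizer (H : Set G)).map φ.toMonoidHom =
      centralizer ((H.map φ.toMonoidHom : Subgroup G) : Set G) := by
  ext x
  simp only [mem_map, mem_centralizer_iff, MulEquiv.coe_toMonoidHom, SetLike.mem_coe]
  constructor
  · rintro ⟨y, hy, rfl⟩ _ ⟨z, hz, rfl⟩
    rw [← map_mul, hy z hz, map_mul]
  · intro hx
    refine ⟨φ.symm x, fun z hz => φ.injective ?_, φ.apply_symm_apply x⟩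
    rw [map_mul, map_mul, φ.apply_symm_apply]
    exact hx _ ⟨z, hz, rfl⟩

theorem map_omegaOneCenter (H : Subgroup G) :
    (omegaOneCenter p H).map φ.toMonoidHom = omegaOneCenter p (H.map φ.toMonoidHom) := by
  rw [omegaOneCenter, omegaOneCenter, map_omegaOne _ φ.injective, Subgroup.map_inf _ _ _ φ.injective,
    map_centralizer_equiv]

theorem le_normalizer_map {H K : Subgroup G} (h : H ≤ normalizer (K : Set G)) :
    H.map φ.toMonoidHom ≤ normalizer ((K.map φ.toMonoidHom : Subgroup G) : Set G) :=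
  (Subgroup.map_mono h).trans (Subgroup.le_normalizer_map φ.toMonoidHom)

variable [Finite G]

theorem map_pCoreOf (H : Subgroup G) :
    (pCoreOf p H).map φ.toMonoidHom = pCoreOf p (H.map φ.toMonoidHom) := by
  have key : ∀ (ψ : G ≃* G) (H : Subgroup G),
      (pCoreOf p H).map ψ.toMonoidHom ≤ pCoreOf p (H.map ψ.toMonoidHom) := fun ψ H =>
    Local.le_pCoreOf (Subgroup.map_mono (Local.pCoreOf_le H))
      (le_normalizer_map ψ (Local.le_normalizer_pCoreOf H))
      ((Local.pCoreOf_isPGroup H).map _)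
  refine le_antisymm (key φ H) ?_
  have h := key φ.symm (H.map φ.toMonoidHom)
  rw [map_map_symm] at h
  have h2 := Subgroup.map_mono (f := φ.toMonoidHom) h
  rwa [show ((pCoreOf p (H.map φ.toMonoidHom)).map φ.symm.toMonoidHom).map φ.toMonoidHom =
    pCoreOf p (H.map φ.toMonoidHom) from map_map_symm φ.symm _] at h2

omit [Finite G] in
theorem map_pResidualOf_eq {E : Subgroup G} (h : pResidualOf p E = E) :
    pResidualOf p (E.map φ.toMonoidHom) = E.map φ.toMonoidHom := by
  refine le_antisymm (pResidualOf_le _ _) ?_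
  refine map_le_iff_le_comap.2 (h.ge.trans (pResidualOf_le_iff.2 fun x hx hc => ?_))
  refine mem_pResidualOf ⟨x, hx, rfl⟩ ?_
  show (orderOf (φ x)).Coprime p
  rwa [MulEquiv.orderOf_eq]

/-- The subgroup and its image. -/
noncomputable def subEquiv (H : Subgroup G) : ↥H ≃* ↥(H.map φ.toMonoidHom) :=
  H.equivMapOfInjective _ φ.injective

omit [Finite G] in
theorem coe_subEquiv (H : Subgroup G) (x : ↥H) : (subEquiv φ H x : G) = φ x :=
  Subgroup.coe_equivMapOfInjective_apply _ _ _ x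

omit [Finite G] in
theorem coe_subEquiv_symm (H : Subgroup G) (y : ↥(H.map φ.toMonoidHom)) :
    φ ((subEquiv φ H).symm y : G) = y := by
  rw [← coe_subEquiv, MulEquiv.apply_symm_apply]

theorem quotient_pCore_congr (H : Subgroup G) {K : Type*} [Group K]
    (e : ↥H ⧸ pCore p ↥H ≃* K) :
    Nonempty (↥(H.map φ.toMonoidHom) ⧸ pCore p ↥(H.map φ.toMonoidHom) ≃* K) := by
  refine ⟨(QuotientGroup.congr (pCore p ↥H) _ (subEquiv φ H) ?_).symm.trans e⟩
  ext y
  constructor
  · rintro ⟨x, hx, rfl⟩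
    have h1 : φ (x : G) ∈ pCoreOf p (H.map φ.toMonoidHom) :=
      (map_pCoreOf φ H).le ⟨x, ⟨x, hx, rfl⟩, rfl⟩
    obtain ⟨z, hz, hzx⟩ := h1
    have : z = subEquiv φ H x := Subtype.ext (hzx.trans (coe_subEquiv φ H x).symm)
    exact this ▸ hz
  · intro hy
    have h1 : (y : G) ∈ (pCoreOf p H).map φ.toMonoidHom := (map_pCoreOf φ H).ge ⟨y, hy, rfl⟩
    obtain ⟨_, ⟨x, hx, rfl⟩, hxy⟩ := h1
    exact ⟨x, hx, Subtype.ext ((coe_subEquiv φ H x).trans hxy)⟩

omit [Finite G] in
theorem map_actsAsSL2 {K : Type*} [Field K] {R : Subgroup SL(2, K)} {E U U₀ : Subgroup G}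
    (h : ActsAsSL2OnSection K R E U U₀) :
    ActsAsSL2OnSection K R (E.map φ.toMonoidHom) (U.map φ.toMonoidHom) (U₀.map φ.toMonoidHom) := by
  obtain ⟨hn, hle, ρ, ψ, hρ, hψ, hker, hact⟩ := h
  refine ⟨le_normalizer_map φ hn, Subgroup.map_mono hle, ρ.comp (subEquiv φ E).symm.toMonoidHom,
    ψ.comp (subEquiv φ U).symm.toMonoidHom, ?_, fun x => ?_, fun u => ?_, fun e u => ?_⟩
  · rw [MonoidHom.range_comp, MonoidHom.range_eq_top.2 (subEquiv φ E).symm.surjective,
      ← MonoidHom.range_eq_map, hρ]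
  · obtain ⟨u, hu⟩ := hψ x
    refine ⟨subEquiv φ U u, ?_⟩
    simp only [MonoidHom.comp_apply, MulEquiv.coe_toMonoidHom, MulEquiv.symm_apply_apply]
    exact hu
  · rw [MonoidHom.comp_apply, MulEquiv.coe_toMonoidHom, hker]
    constructor
    · intro h
      exact ⟨_, h, coe_subEquiv_symm φ U u⟩
    · rintro ⟨z, hz, hzu⟩
      have : ((subEquiv φ U).symm u : G) = z := φ.injective ((coe_subEquiv_symm φ U u).trans hzu.symm)
      rwa [this]
  · obtain ⟨w, hw, hw'⟩ := hact ((subEquiv φ E).symm e) ((subEquiv φ U).symm u)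
    refine ⟨subEquiv φ U w, ?_, by
      simp only [MonoidHom.comp_apply, MulEquiv.coe_toMonoidHom, MulEquiv.symm_apply_apply]
      exact hw'⟩
    rw [coe_subEquiv, hw, map_mul, map_mul, map_inv, coe_subEquiv_symm, coe_subEquiv_symm]

omit [Finite G] in
theorem map_actsAsPerm {n : ℕ} {R : Subgroup (Equiv.Perm (Fin n))} {E U U₀ : Subgroup G}
    (h : ActsAsOddPermModuleOnSection n R E U U₀) :
    ActsAsOddPermModuleOnSection n R (E.map φ.toMonoidHom) (U.map φ.toMonoidHom)
      (U₀.map φ.toMonoidHom) := by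
  obtain ⟨hn, hle, ρ, ψ, hρ, heven, hsurj, hker, hact⟩ := h
  refine ⟨le_normalizer_map φ hn, Subgroup.map_mono hle, ρ.comp (subEquiv φ E).symm.toMonoidHom,
    ψ.comp (subEquiv φ U).symm.toMonoidHom, ?_, fun u => heven _, fun v hv => ?_, fun u => ?_,
    fun e u => ?_⟩
  · rw [MonoidHom.range_comp, MonoidHom.range_eq_top.2 (subEquiv φ E).symm.surjective,
      ← MonoidHom.range_eq_map, hρ]
  · obtain ⟨u, hu⟩ := hsurj v hv
    refine ⟨subEquiv φ U u, ?_⟩
    simp only [MonoidHom.comp_apply, MulEquiv.coe_toMonoidHom, MulEquiv.symm_apply_apply]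
    exact hu
  · rw [MonoidHom.comp_apply, MulEquiv.coe_toMonoidHom, hker]
    constructor
    · intro h
      exact ⟨_, h, coe_subEquiv_symm φ U u⟩
    · rintro ⟨z, hz, hzu⟩
      have : ((subEquiv φ U).symm u : G) = z := φ.injective ((coe_subEquiv_symm φ U u).trans hzu.symm)
      rwa [this]
  · obtain ⟨w, hw, hw'⟩ := hact ((subEquiv φ E).symm e) ((subEquiv φ U).symm u)
    refine ⟨subEquiv φ U w, ?_, by
      simp only [MonoidHom.comp_apply, MulEquiv.coe_toMonoidHom, MulEquiv.symm_apply_apply]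
      exact hw'⟩
    rw [coe_subEquiv, hw, map_mul, map_mul, map_inv, coe_subEquiv_symm, coe_subEquiv_symm]

theorem map_frattiniOf (H : Subgroup G) :
    ((frattini ↥H).map H.subtype).map φ.toMonoidHom =
      (frattini ↥(H.map φ.toMonoidHom)).map (H.map φ.toMonoidHom).subtype := by
  rw [← map_frattini_eq (subEquiv φ H).toMonoidHom (subEquiv φ H).surjective
    (by rw [(MonoidHom.ker_eq_bot_iff _).2 (subEquiv φ H).injective]; exact bot_le),
    Subgroup.map_map, Subgroup.map_map]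
  congr 1

/-- The image of a block is a block for the image of the Sylow subgroup. -/
theorem map_block {T E : Subgroup G} (hE : IsBaumannBlock p T E) :
    IsBaumannBlock p (T.map φ.toMonoidHom) (E.map φ.toMonoidHom) := by
  obtain ⟨h1, h2, h3, h4, h5⟩ := hE
  have hQ := map_pCoreOf (p := p) φ E
  have hB := map_baumann (p := p) φ T
  have hinj : ∀ A B : Subgroup G,
      (A ⊓ B).map φ.toMonoidHom = A.map φ.toMonoidHom ⊓ B.map φ.toMonoidHom :=
    fun A B => Subgroup.map_inf _ _ _ φ.injective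
  refine ⟨map_pResidualOf_eq φ h1, ?_, ?_, ?_, ?_⟩
  · rw [← hB, ← map_commutator, h2]
  · rw [← hQ, ← map_commutator, h3]
  · rw [← map_omegaOneCenter, ← map_commutator, Ne, Subgroup.map_eq_bot_iff_of_injective _ φ.injective]
    exact h4
  rw [← hQ, ← map_omegaOneCenter, ← map_centralizer_equiv, ← hinj, ← hinj]
  rcases h5 with ⟨K, iK, iK', n, hK, ⟨e⟩, hsec, hq⟩ | ⟨hp2, m, ⟨e⟩, hsec, hq⟩
  · refine Or.inl ⟨K, iK, iK', n, hK, quotient_pCore_congr φ E e, map_actsAsSL2 φ hsec, ?_⟩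
    rcases hq with hq | ⟨hp3, hs, hQQ, hfr, hZE, hcard, hb⟩
    · exact Or.inl (congrArg (Subgroup.map φ.toMonoidHom) hq)
    refine Or.inr ⟨hp3, map_actsAsSL2 φ hs, by rw [← map_commutator, hQQ],
      by rw [← map_frattiniOf, hfr], congrArg (Subgroup.map φ.toMonoidHom) hZE, ?_, ?_⟩
    · rw [Subgroup.card_map_of_injective φ.injective, hcard]
    · intro b hbB hbC hle
      obtain ⟨b, hb', rfl⟩ : b ∈ (baumannSubgroupOf p T).map φ.toMonoidHom := hB ▸ hbB
      refine hb b hb' (fun h => hbC ((map_centralizer_equiv φ _).le ⟨b, h, rfl⟩)) ?_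
      have h : ((⁅⁅pCoreOf p E, zpowers b⁆, zpowers b⁆).map φ.toMonoidHom) ≤
          (E ⊓ centralizer (E : Set G)).map φ.toMonoidHom := by
        rw [map_commutator, map_commutator, MonoidHom.map_zpowers]
        exact hle
      exact (map_le_map_iff_of_injective φ.injective).1 h
  · exact Or.inr ⟨hp2, m, quotient_pCore_congr φ E e, map_actsAsPerm φ hsec,
      congrArg (Subgroup.map φ.toMonoidHom) hq⟩

end Cfsg.Lib.Local.SubBlock
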