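import Cfsg.Agent.Lib.QPair.Components
import Mathlib.LinearAlgebra.Matrix.SpecialLinearGroup
import Mathlib.FieldTheory.Fixed
import Mathlib.GroupTheory.Perm.Fin
import Mathlib.Algebra.CharP.Lemmas

/-!
# The planes and the permutation modules of blocks

Maps commuting with `SL₂` are scalars, maps normalizing it are semilinear, an abelian `p`-group of
semilinear maps of a plane which is an offender is linear; maps commuting with an alternating group
on the even vectors are trivial.
-/

set_option autoImplicit false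

namespace Cfsg.Lib.Local.SubBlock

open Matrix
open scoped MatrixGroups

variable {K : Type*} [Field K]

/-- An upper unitriangular element. -/
def upS (c : K) : SL(2, K) := ⟨!![1, c; 0, 1], by simp [Matrix.det_fin_two]⟩

/-- A lower unitriangular element. -/
def loS (c : K) : SL(2, K) := ⟨!![1, 0; c, 1], by simp [Matrix.det_fin_two]⟩

theorem upS_mulVec (c x y : K) :
    (upS c : Matrix (Fin 2) (Fin 2) K) *ᵥ ![x, y] = ![x + c * y, y] := by
  ext i; fin_cases i <;> simp [upS, mul_comm]

theorem loS_mulVec (c x y : K) :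
    (loS c : Matrix (Fin 2) (Fin 2) K) *ᵥ ![x, y] = ![x, c * x + y] := by
  ext i; fin_cases i <;> simp [loS, mul_comm]

theorem eq_vec (v : Fin 2 → K) : v = ![v 0, v 1] := by
  ext i; fin_cases i <;> simp

/-- Additive maps commuting with `SL₂` are scalars. -/
theorem scalar_of_commute (f : (Fin 2 → K) →+ (Fin 2 → K))
    (h : ∀ (g : SL(2, K)) (v : Fin 2 → K),
      f ((g : Matrix (Fin 2) (Fin 2) K) *ᵥ v) = (g : Matrix (Fin 2) (Fin 2) K) *ᵥ f v) :
    ∃ μ : K, ∀ v, f v = μ • v := by
  have h0 : ∀ x, f ![x, 0] 1 = 0 := fun x => by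
    have h1 := h (upS 1) ![x, 0]
    rw [upS_mulVec, mul_zero, add_zero, eq_vec (f ![x, 0]), upS_mulVec] at h1
    simpa using congrFun h1 0
  have h1 : ∀ x, f ![0, x] 0 = 0 := fun x => by
    have h1 := h (loS 1) ![0, x]
    rw [loS_mulVec, mul_zero, zero_add, eq_vec (f ![0, x]), loS_mulVec] at h1
    simpa using congrFun h1 1
  have h2 : ∀ c x, f ![c * x, 0] 0 = c * f ![0, x] 1 := fun c x => by
    have h2 := h (upS c) ![0, x]
    rw [upS_mulVec, zero_add, show (![c * x, x] : Fin 2 → K) = ![c * x, 0] + ![0, x] by simp,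
      map_add, eq_vec (f ![0, x]), upS_mulVec] at h2
    have h3 := congrFun h2 0
    simpa [h1] using h3
  set μ := f ![0, 1] 1 with hμ
  have ha : ∀ x, f ![x, 0] 0 = μ * x := fun x => by
    simpa [mul_comm] using h2 x 1
  have hb : ∀ x, f ![0, x] 1 = μ * x := fun x => by
    simpa [ha] using (h2 1 x).symm
  refine ⟨μ, fun v => ?_⟩
  have hv : v = ![v 0, 0] + ![0, v 1] := by ext i; fin_cases i <;> simp
  conv_lhs => rw [hv, map_add]
  ext i; fin_cases i <;> simp [h0, h1, ha, hb]

/-- A bijection normalizing `SL₂` is semilinear. -/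
theorem semilinear_of_normalizes [Finite K] (f : (Fin 2 → K) ≃+ (Fin 2 → K))
    (h : ∀ g : SL(2, K), ∃ g' : SL(2, K), ∀ v,
      f ((g' : Matrix (Fin 2) (Fin 2) K) *ᵥ v) = (g : Matrix (Fin 2) (Fin 2) K) *ᵥ f v) :
    ∃ σ : K ≃+* K, ∀ a v, f (a • v) = σ a • f v := by
  have key : ∀ a : K, ∃ μ : K, ∀ w, f (a • f.symm w) = μ • w := by
    intro a
    refine scalar_of_commute
      (AddMonoidHom.mk' (fun w => f (a • f.symm w)) fun x y => by simp [smul_add]) fun g w => ?_
    obtain ⟨g', hg'⟩ := h g
    have e : f.symm ((g : Matrix (Fin 2) (Fin 2) K) *ᵥ w) =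
        (g' : Matrix (Fin 2) (Fin 2) K) *ᵥ f.symm w := by
      apply f.injective; rw [f.apply_symm_apply, hg', f.apply_symm_apply]
    simp only [AddMonoidHom.mk'_apply]
    rw [e, ← mulVec_smul, hg']
  choose s hs using key
  have hs' : ∀ a v, f (a • v) = s a • f v := fun a v => by simpa using hs a (f v)
  have hinj : ∀ {x y : K}, x • (![1, 0] : Fin 2 → K) = y • ![1, 0] → x = y := fun {x y} e => by
    simpa using congrFun e 0
  let e₀ := f.symm ![1, 0]
  have he : f e₀ = ![1, 0] := f.apply_symm_apply _
  let σ : K →+* K :=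
    { toFun := s
      map_one' := hinj (by rw [← he, ← hs', one_smul, one_smul])
      map_zero' := hinj (by rw [← he, ← hs', zero_smul, map_zero, zero_smul])
      map_mul' := fun x y => hinj (by rw [← he, ← hs', mul_smul, hs', hs', smul_smul])
      map_add' := fun x y => hinj (by rw [← he, ← hs', add_smul, map_add, hs', hs', ← add_smul]) }
  exact ⟨RingEquiv.ofBijective σ ((Finite.injective_iff_bijective).1 σ.injective), hs'⟩

/-- A nilpotent linear map of a plane has square zero. -/
theorem sq_zero {N : (Fin 2 → K) →ₗ[K] (Fin 2 → K)} (h : IsNilpotent N) (v : Fin 2 → K) :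
    N (N v) = 0 := by
  obtain ⟨k, hk⟩ := h
  by_contra hne
  have hcomm : ∀ (i : ℕ) w, (N ^ i) (N w) = N ((N ^ i) w) := fun i w => by
    rw [← Module.End.mul_apply, ← Module.End.mul_apply, (Commute.pow_self N i).eq]
  have hex : ∃ j, (N ^ (j + 1)) (N (N v)) = 0 := ⟨k, by rw [pow_succ, hk]; simp⟩
  classical
  obtain ⟨j, hj, hj'⟩ : ∃ j, (N ^ j) (N (N v)) ≠ 0 ∧ (N ^ (j + 1)) (N (N v)) = 0 := by
    refine ⟨Nat.find hex, ?_, Nat.find_spec hex⟩
    rcases Nat.eq_zero_or_pos (Nat.find hex) with h0 | h0
    · rw [h0]; simpa using hne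
    · obtain ⟨i, hi⟩ : ∃ i, Nat.find hex = i + 1 := ⟨Nat.find hex - 1, by omega⟩
      have := Nat.find_min hex (show i < Nat.find hex by omega)
      rwa [hi]
  set u2 := (N ^ j) v with hu2
  set u1 := N u2 with hu1
  set u := N u1 with hu
  have hu0 : u ≠ 0 := by
    rw [hu, hu1, hu2, ← hcomm, ← hcomm]
    exact hj
  have hu' : N u = 0 := by
    rw [hu, hu1, hu2, ← hcomm, ← hcomm, ← Module.End.mul_apply, ← pow_succ']
    exact hj'
  have hli : LinearIndependent K ![u, u1] := by
    rw [LinearIndependent.pair_iff]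
    intro s t hst
    have h1 : t • u = 0 := by simpa [hu', ← hu] using congrArg N hst
    rcases smul_eq_zero.1 h1 with ht | h1
    · rcases smul_eq_zero.1 (show s • _ = (0 : Fin 2 → K) by simpa [ht, -smul_eq_zero] using hst) with hs | h2
      · exact ⟨hs, ht⟩
      · exact absurd h2 hu0
    · exact absurd h1 hu0
  have hspan : Submodule.span K (Set.range ![u, u1]) = ⊤ :=
    hli.span_eq_top_of_card_eq_finrank' (by simp)
  have hm : u2 ∈ Submodule.span K (Set.range ![u, u1]) := hspan ▸ trivial
  rw [Matrix.range_cons, Matrix.range_cons, Matrix.range_empty, Set.union_empty,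
    Set.singleton_union, Submodule.mem_span_pair] at hm
  obtain ⟨a, b, hab⟩ := hm
  have h1 : b • u = u1 := by
    simpa [hu', ← hu, ← hu1] using congrArg N hab
  have h2 : N u1 = 0 := by rw [← h1, map_smul, hu', smul_zero]
  exact hu0 (hu.trans h2)

section Plane

variable [Finite K] (p : ℕ) [hp : Fact p.Prime] [CharP K p]

/-- A linear map of `p`-power order is `1` plus a map of square zero. -/
theorem sub_one_sq {L : (Fin 2 → K) →ₗ[K] (Fin 2 → K)} {k : ℕ} (h : L ^ p ^ k = 1) (v : Fin 2 → K) :
    (L - 1) ((L - 1) v) = 0 := by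
  refine sq_zero ⟨p ^ k, ?_⟩ v
  haveI : CharP (Module.End K (Fin 2 → K)) p :=
    charP_of_injective_algebraMap' K (A := Module.End K (Fin 2 → K)) p
  rw [sub_pow_char_pow_of_commute p k (Commute.one_right L), one_pow, h, sub_self]

variable {A : Type*} [CommGroup A] [Finite A]

/-- An abelian `p`-group of semilinear maps of a plane which is an offender is linear. -/
theorem offender_linear (φ : A →* AddMonoid.End (Fin 2 → K)) (S : A → (K ≃+* K))
    (hS : ∀ a (c : K) v, φ a (c • v) = S a c • φ a v) (hp' : ∀ a : A, ∃ k : ℕ, a ^ p ^ k = 1)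
    (hcount : Nat.card (Fin 2 → K) ≤
      Nat.card {v : Fin 2 → K // ∀ a, φ a v = v} * Nat.card (Set.range φ)) :
    ∀ a, S a = RingEquiv.refl K := by
  classical
  haveI := Fintype.ofFinite K
  haveI := Fintype.ofFinite A
  have hmul : ∀ a b v, φ (a * b) v = φ a (φ b v) := fun a b v => by rw [map_mul]; rfl
  have hinjA : ∀ a (v w : Fin 2 → K), φ a v = φ a w → v = w := fun a v w e => by
    have := congrArg (φ a⁻¹) e
    rwa [← hmul, ← hmul, inv_mul_cancel, map_one] at this
  have huniq : ∀ {s t : K} {v : Fin 2 → K}, v ≠ 0 → s • v = t • v → s = t := fun hv e =>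
    smul_left_injective K hv e
  have he0 : (![1, 0] : Fin 2 → K) ≠ 0 := fun e => one_ne_zero (α := K) (by simpa using congrFun e 0)
  have hne : ∀ a, φ a ![1, 0] ≠ 0 := fun a e => he0 (hinjA a _ _ (by rw [e, map_zero]))
  let T : A →* RingAut K :=
    { toFun := S
      map_one' := RingEquiv.ext fun c => huniq (hne 1) (by
        rw [← hS, map_one]; simp [AddMonoid.End.coe_one])
      map_mul' := fun a b => RingEquiv.ext fun c => huniq (hne (a * b)) (by
        rw [← hS, hmul, hS, hS, ← hmul]; rfl) }
  by_contra hcon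
  push Not at hcon
  obtain ⟨a₁, ha₁⟩ := hcon
  set H := T.range with hH
  haveI : Fintype H := Fintype.ofFinite H
  set K₁ := FixedPoints.subfield H K with hK₁
  haveI : Fintype K₁ := Fintype.ofFinite K₁
  set r := Fintype.card K₁ with hr
  set d := Fintype.card H with hd
  have hfix : ∀ {c : K}, (∀ a, S a c = c) → c ∈ K₁ := by
    rintro c hc ⟨_, a, rfl⟩
    exact hc a
  have hq : Fintype.card K = r ^ d := by
    rw [Module.card_eq_pow_finrank (K := K₁) (V := K), FixedPoints.finrank_eq_card H K]
  have hd2 : 2 ≤ d := by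
    refine Fintype.one_lt_card_iff.2 ⟨⟨T a₁, a₁, rfl⟩, 1, fun e => ha₁ ?_⟩
    exact congrArg Subtype.val e
  have hr2 : 2 ≤ r := Fintype.one_lt_card
  set Fix := {v : Fin 2 → K // ∀ a, φ a v = v} with hFix
  -- fixed vectors spanning a line or everything
  have hfix2 : Nat.card Fix ≤ r ^ 2 ∧ (∀ m : Fix, (m : Fin 2 → K) ≠ 0 →
      (∀ v : Fix, ∃ c : K, c • (m : Fin 2 → K) = v) → Nat.card Fix ≤ r) := by
    refine ⟨?_, fun m hm hall => ?_⟩
    · by_cases hpair : ∃ m n : Fix, LinearIndependent K ![(m : Fin 2 → K), n]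
      · obtain ⟨m, n, hli⟩ := hpair
        have hspan := hli.span_eq_top_of_card_eq_finrank' (by simp)
        have key : ∀ v : Fix, ∃ c : K₁ × K₁, (c.1 : K) • (m : Fin 2 → K) + (c.2 : K) • n = v := by
          intro v
          have hm' : (v : Fin 2 → K) ∈ Submodule.span K (Set.range ![(m : Fin 2 → K), n]) :=
            hspan ▸ trivial
          rw [Matrix.range_cons, Matrix.range_cons, Matrix.range_empty, Set.union_empty,
            Set.singleton_union, Submodule.mem_span_pair] at hm'
          obtain ⟨a, b, hab⟩ := hm'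
          have hs : ∀ x, S x a = a ∧ S x b = b := fun x => by
            have e : S x a • (m : Fin 2 → K) + S x b • (n : Fin 2 → K) = a • m + b • n := by
              conv_rhs => rw [hab, ← v.2 x, ← hab, map_add, hS, hS, m.2 x, n.2 x]
            have e' : (S x a - a) • (m : Fin 2 → K) + (S x b - b) • (n : Fin 2 → K) = 0 := by
              rw [sub_smul, sub_smul, sub_add_sub_comm, e, sub_self]
            obtain ⟨h1, h2⟩ := LinearIndependent.pair_iff.1 hli _ _ e'
            exact ⟨sub_eq_zero.1 h1, sub_eq_zero.1 h2⟩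
          exact ⟨(⟨a, hfix fun x => (hs x).1⟩, ⟨b, hfix fun x => (hs x).2⟩), hab⟩
        choose g hg using key
        refine (Nat.card_le_card_of_injective g fun v w e => Subtype.ext ?_).trans ?_
        · rw [← hg v, ← hg w, e]
        · rw [Nat.card_prod, Nat.card_eq_fintype_card, sq]
      · push Not at hpair
        by_cases h0 : ∃ m : Fix, (m : Fin 2 → K) ≠ 0
        · obtain ⟨m, hm⟩ := h0
          have key : ∀ v : Fix, ∃ c : K₁, (c : K) • (m : Fin 2 → K) = v := by
            intro v
            have h1 := hpair m v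
            rw [LinearIndependent.pair_iff' hm] at h1
            push Not at h1
            obtain ⟨c, hc⟩ := h1
            refine ⟨⟨c, hfix fun x => huniq hm ?_⟩, hc⟩
            rw [hc, ← v.2 x, ← hc, hS, m.2 x]
          choose g hg using key
          refine (Nat.card_le_card_of_injective g fun v w e => Subtype.ext ?_).trans ?_
          · rw [← hg v, ← hg w, e]
          · rw [Nat.card_eq_fintype_card]; exact Nat.le_self_pow two_ne_zero r
        · push Not at h0
          haveI : Subsingleton Fix := ⟨fun v w => Subtype.ext ((h0 v).trans (h0 w).symm)⟩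
          rw [show Nat.card Fix = 1 from Nat.card_eq_one_iff_unique.2
            ⟨inferInstance, ⟨⟨0, fun a => map_zero _⟩⟩⟩]
          exact Nat.one_le_pow _ _ (by omega)
    · have key : ∀ v : Fix, ∃ c : K₁, (c : K) • (m : Fin 2 → K) = v := by
        intro v
        obtain ⟨c, hc⟩ := hall v
        exact ⟨⟨c, hfix fun x => huniq hm (by rw [hc, ← v.2 x, ← hc, hS, m.2 x])⟩, hc⟩
      choose g hg using key
      refine (Nat.card_le_card_of_injective g fun v w e => Subtype.ext ?_).trans
        (Nat.card_eq_fintype_card).le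
      rw [← hg v, ← hg w, e]
  -- the image
  let D : A → H := fun a => ⟨T a, a, rfl⟩
  set A₀ := T.ker with hA₀
  have hsplit : Nat.card (Set.range φ) ≤ d * Nat.card (φ '' (A₀ : Set A)) := by
    have hsec : ∀ h : H, ∃ a, D a = h := fun h => by
      obtain ⟨_, a, rfl⟩ := h; exact ⟨a, rfl⟩
    choose sec hsec using hsec
    let F : H × (φ '' (A₀ : Set A)) → Set.range φ := fun x =>
      ⟨φ (sec x.1) * (x.2 : AddMonoid.End (Fin 2 → K)), by
        obtain ⟨a, -, ha⟩ := x.2.2
        exact ⟨sec x.1 * a, by rw [map_mul, ha]⟩⟩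
    have hF : Function.Surjective F := by
      rintro ⟨_, a, rfl⟩
      have hmem : (sec (D a))⁻¹ * a ∈ A₀ := by
        rw [hA₀, MonoidHom.mem_ker, map_mul, map_inv,
          show T (sec (D a)) = T a from congrArg Subtype.val (hsec (D a)), inv_mul_cancel]
      exact ⟨(D a, ⟨_, _, hmem, rfl⟩), Subtype.ext (by simp [F, ← map_mul])⟩
    refine (Nat.card_le_card_of_surjective F hF).trans ?_
    rw [Nat.card_prod, Nat.card_eq_fintype_card]
  let L : A₀ → Module.End K (Fin 2 → K) := fun a =>
    { toFun := φ (a : A)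
      map_add' := map_add _
      map_smul' := fun c v => by
        have e : S (a : A) = RingEquiv.refl K := a.2
        rw [hS, e]; rfl }
  have hLpow : ∀ (a : A₀) (n : ℕ), L a ^ n = L (a ^ n) := by
    intro a n
    induction n with
    | zero => exact LinearMap.ext fun v => by simp [L, AddMonoid.End.coe_one]
    | succ n ih =>
      rw [pow_succ, ih]
      exact LinearMap.ext fun v => by
        show φ ((a ^ n : A₀) : A) (φ (a : A) v) = φ ((a ^ (n + 1) : A₀) : A) v
        rw [← hmul, pow_succ]; rfl
  have hsq : ∀ (a : A₀) v, (L a - 1) ((L a - 1) v) = 0 := fun a v => by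
    obtain ⟨k, hk⟩ := hp' a
    refine sub_one_sq p (k := k) ?_ v
    rw [hLpow, show a ^ p ^ k = 1 from Subtype.ext hk]
    exact LinearMap.ext fun w => by simp [L, AddMonoid.End.coe_one]
  have hcardV : Nat.card (Fin 2 → K) = r ^ d * r ^ d := by
    rw [Nat.card_eq_fintype_card, Fintype.card_fun, Fintype.card_fin, hq, sq]
  rw [hcardV] at hcount
  have hrd : d < r ^ (2 * d - 2) := by
    refine lt_of_lt_of_le (Nat.lt_two_pow_self (n := d)) ?_
    exact (Nat.pow_le_pow_left hr2 d).trans (Nat.pow_le_pow_right (by omega) (by omega))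
  have hbig : d * r ^ 2 < r ^ d * r ^ d := by
    rw [← pow_add, show d + d = (2 * d - 2) + 2 by omega, pow_add r (2 * d - 2) 2]
    exact Nat.mul_lt_mul_of_pos_right hrd (by positivity)
  by_cases htriv : ∀ a ∈ A₀, φ a = 1
  · have h1 : Nat.card (φ '' (A₀ : Set A)) ≤ 1 := by
      have : φ '' (A₀ : Set A) ⊆ {1} := by rintro _ ⟨a, ha, rfl⟩; exact htriv a ha
      exact (Nat.card_mono (Set.finite_singleton _) this).trans (by simp)
    have : r ^ d * r ^ d ≤ r ^ 2 * (d * 1) := hcount.trans
      (Nat.mul_le_mul hfix2.1 (hsplit.trans (Nat.mul_le_mul_left d h1)))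
    rw [mul_one, mul_comm (r ^ 2)] at this
    omega
  · push Not at htriv
    obtain ⟨a₀, ha₀, hne0⟩ := htriv
    set N := L ⟨a₀, ha₀⟩ - 1 with hN
    have hNap : ∀ v, N v = φ a₀ v - v := fun v => rfl
    obtain ⟨m₀, hm₀⟩ : ∃ m, N m ≠ 0 := by
      by_contra h
      push Not at h
      exact hne0 (AddMonoidHom.ext fun v => sub_eq_zero.1 ((hNap v).symm.trans (h v)))
    set l := N m₀ with hl
    have hNl : N l = 0 := hsq _ m₀
    have hli : LinearIndependent K ![l, m₀] := by
      rw [LinearIndependent.pair_iff]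
      intro s t hst
      have h1 : t • l = 0 := by simpa [hNl, ← hl] using congrArg N hst
      rcases smul_eq_zero.1 h1 with ht | h1
      · rcases smul_eq_zero.1 (show s • _ = (0 : Fin 2 → K) by simpa [ht, -smul_eq_zero] using hst) with hs | h2
        · exact ⟨hs, ht⟩
        · exact absurd h2 hm₀
      · exact absurd h1 hm₀
    have hspan := hli.span_eq_top_of_card_eq_finrank' (by simp)
    have hdec : ∀ v : Fin 2 → K, ∃ a b : K, a • l + b • m₀ = v := fun v => by
      have hm' : v ∈ Submodule.span K (Set.range ![l, m₀]) := hspan ▸ trivial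
      rwa [Matrix.range_cons, Matrix.range_cons, Matrix.range_empty, Set.union_empty,
        Set.singleton_union, Submodule.mem_span_pair] at hm'
    have hfixr : Nat.card Fix ≤ r := by
      have hker : ∀ v : Fix, ∃ c : K, c • l = v := fun v => by
        obtain ⟨a, b, hab⟩ := hdec v
        have h1 : b • l = 0 := by
          have := congrArg N hab
          rw [map_add, map_smul, map_smul, hNl, smul_zero, zero_add, ← hl] at this
          rw [this, hNap, v.2, sub_self]
        rcases smul_eq_zero.1 h1 with hb | h1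
        · exact ⟨a, by simpa [hb] using hab⟩
        · exact absurd h1 hm₀
      by_cases h0 : ∃ m : Fix, (m : Fin 2 → K) ≠ 0
      · obtain ⟨m, hm⟩ := h0
        refine hfix2.2 m hm fun v => ?_
        obtain ⟨c, hc⟩ := hker m
        obtain ⟨c', hc'⟩ := hker v
        have hc0 : c ≠ 0 := fun e => hm (by rw [← hc, e, zero_smul])
        exact ⟨c' / c, by rw [← hc, smul_smul, div_mul_cancel₀ _ hc0, hc']⟩
      · push Not at h0
        haveI : Subsingleton Fix := ⟨fun v w => Subtype.ext ((h0 v).trans (h0 w).symm)⟩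
        rw [show Nat.card Fix = 1 from Nat.card_eq_one_iff_unique.2
          ⟨inferInstance, ⟨⟨0, fun a => map_zero _⟩⟩⟩]
        omega
    have hcomm : ∀ (x : A) (v : Fin 2 → K), φ x (N v) = N (φ x v) := fun x v => by
      rw [hNap, hNap, map_sub, ← hmul, ← hmul, mul_comm]
    have hA₀r : Nat.card (φ '' (A₀ : Set A)) ≤ r := by
      have key : ∀ x : φ '' (A₀ : Set A), ∃ c : K₁, ∀ v,
          (x : AddMonoid.End (Fin 2 → K)) v = v + (c : K) • N v := by
        rintro ⟨_, a, ha, rfl⟩
        set M := L ⟨a, ha⟩ - 1 with hM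
        have hMap : ∀ v, M v = φ a v - v := fun v => rfl
        obtain ⟨α, β, hαβ⟩ := hdec (M m₀)
        have hMN : ∀ v, M (N v) = N (M v) := fun v => by
          rw [hMap, hMap, map_sub, hcomm]
        have hMl : M l = β • l := by
          rw [hl, hMN, ← hαβ, map_add, map_smul, map_smul, hNl, smul_zero, zero_add]
        have hβ : β = 0 := by
          have h2 : M (M m₀) = 0 := hsq _ m₀
          rw [← hαβ, map_add, map_smul, map_smul, hMl, ← hαβ, smul_add, smul_smul, smul_smul,
            smul_smul, ← add_assoc, ← add_smul] at h2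
          exact mul_self_eq_zero.1 (LinearIndependent.pair_iff.1 hli _ _ h2).2
        have hMeq : ∀ v, M v = α • N v := fun v => by
          obtain ⟨x, y, rfl⟩ := hdec v
          rw [map_add, map_smul, map_smul, hMl, hβ, zero_smul, smul_zero, zero_add, ← hαβ, hβ,
            zero_smul, add_zero, map_add, map_smul, map_smul, hNl, smul_zero, zero_add, ← hl,
            smul_comm]
        refine ⟨⟨α, hfix fun x => ?_⟩, fun v => ?_⟩
        · have h1 : φ x (M m₀) = M (φ x m₀) := by
            rw [hMap, hMap, map_sub, ← hmul, ← hmul, mul_comm]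
          rw [hMeq, hMeq, hS, ← hcomm, ← hl] at h1
          refine huniq (fun e => ?_) h1
          exact hm₀ (hinjA x _ _ (by rw [e, map_zero]))
        · rw [← hMeq, hMap]; abel
      choose g hg using key
      refine (Nat.card_le_card_of_injective g fun x y e => Subtype.ext ?_).trans
        (Nat.card_eq_fintype_card).le
      exact AddMonoidHom.ext fun v => (hg x v).trans (by rw [e]; exact (hg y v).symm)
    have : r ^ d * r ^ d ≤ r * (d * r) := hcount.trans
      (Nat.mul_le_mul hfixr (hsplit.trans (Nat.mul_le_mul_left d hA₀r)))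
    rw [show r * (d * r) = d * r ^ 2 by ring] at this
    omega

/-- An abelian `p`-group of semilinear maps of a plane is smaller than the plane. -/
theorem card_range_lt (φ : A →* AddMonoid.End (Fin 2 → K)) (S : A → (K ≃+* K))
    (hS : ∀ a (c : K) v, φ a (c • v) = S a c • φ a v) (hp' : ∀ a : A, ∃ k : ℕ, a ^ p ^ k = 1) :
    Nat.card (Set.range φ) < Nat.card (Fin 2 → K) := by
  classical
  haveI := Fintype.ofFinite K
  by_contra hge
  push Not at hge
  haveI : Nonempty {v : Fin 2 → K // ∀ a, φ a v = v} := ⟨⟨0, fun a => map_zero _⟩⟩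
  have hlin := offender_linear p φ S hS hp'
    (hge.trans (Nat.le_mul_of_pos_left _ Nat.card_pos))
  let L : A → Module.End K (Fin 2 → K) := fun a =>
    { toFun := φ a
      map_add' := map_add _
      map_smul' := fun c v => by rw [hS, hlin]; rfl }
  have hmul : ∀ a b v, φ (a * b) v = φ a (φ b v) := fun a b v => by rw [map_mul]; rfl
  have hLpow : ∀ (a : A) (n : ℕ), L a ^ n = L (a ^ n) := by
    intro a n
    induction n with
    | zero => exact LinearMap.ext fun v => by simp [L, AddMonoid.End.coe_one]
    | succ n ih =>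
      rw [pow_succ, ih]
      exact LinearMap.ext fun v => by
        show φ (a ^ n) (φ a v) = φ (a ^ (n + 1)) v
        rw [← hmul, pow_succ]
  have hsq : ∀ (a : A) v, (L a - 1) ((L a - 1) v) = 0 := fun a v => by
    obtain ⟨k, hk⟩ := hp' a
    refine sub_one_sq p (k := k) ?_ v
    rw [hLpow, hk]
    exact LinearMap.ext fun w => by simp [L, AddMonoid.End.coe_one]
  by_cases htriv : ∀ a, φ a = 1
  · have h1 : Set.range φ ⊆ {1} := by rintro _ ⟨a, rfl⟩; exact htriv a
    have h2 := (Nat.card_mono (Set.finite_singleton _) h1).trans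
      (by simp : Nat.card ({1} : Set (AddMonoid.End (Fin 2 → K))) ≤ 1)
    have h3 : 1 < Nat.card (Fin 2 → K) := Finite.one_lt_card
    omega
  push Not at htriv
  obtain ⟨a₀, hne0⟩ := htriv
  set N := L a₀ - 1 with hN
  obtain ⟨m₀, hm₀⟩ : ∃ m, N m ≠ 0 := by
    by_contra h
    push Not at h
    exact hne0 (AddMonoidHom.ext fun v => sub_eq_zero.1 (h v))
  set l := N m₀ with hl
  have hNl : N l = 0 := hsq _ m₀
  have hli : LinearIndependent K ![l, m₀] := by
    rw [LinearIndependent.pair_iff]
    intro s t hst
    have h1 : t • l = 0 := by simpa [hNl, ← hl] using congrArg N hst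
    rcases smul_eq_zero.1 h1 with ht | h1
    · rcases smul_eq_zero.1 (show s • _ = (0 : Fin 2 → K) by simpa [ht, -smul_eq_zero] using hst)
        with hs | h2
      · exact ⟨hs, ht⟩
      · exact absurd h2 hm₀
    · exact absurd h1 hm₀
  have hspan := hli.span_eq_top_of_card_eq_finrank' (by simp)
  have hdec : ∀ v : Fin 2 → K, ∃ x y : K, x • l + y • m₀ = v := fun v => by
    have hm' : v ∈ Submodule.span K (Set.range ![l, m₀]) := hspan ▸ trivial
    rwa [Matrix.range_cons, Matrix.range_cons, Matrix.range_empty, Set.union_empty,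
      Set.singleton_union, Submodule.mem_span_pair] at hm'
  have key : ∀ x : Set.range φ, ∃ α : K, ∀ v,
      (x : AddMonoid.End (Fin 2 → K)) v = v + α • N v := by
    rintro ⟨_, a, rfl⟩
    set M := L a - 1 with hM
    obtain ⟨α, β, hαβ⟩ := hdec (M m₀)
    have hMN : ∀ v, M (N v) = N (M v) := fun v => by
      show φ a (φ a₀ v - v) - (φ a₀ v - v) = φ a₀ (φ a v - v) - (φ a v - v)
      rw [map_sub, map_sub, ← hmul, ← hmul, mul_comm]
      abel
    have hMl : M l = β • l := by
      rw [hl, hMN, ← hαβ, map_add, map_smul, map_smul, hNl, smul_zero, zero_add]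
    have hβ : β = 0 := by
      have h2 : M (M m₀) = 0 := hsq _ m₀
      rw [← hαβ, map_add, map_smul, map_smul, hMl, ← hαβ, smul_add, smul_smul, smul_smul,
        smul_smul, ← add_assoc, ← add_smul] at h2
      exact mul_self_eq_zero.1 (LinearIndependent.pair_iff.1 hli _ _ h2).2
    refine ⟨α, fun v => ?_⟩
    have hMeq : M v = α • N v := by
      obtain ⟨x, y, rfl⟩ := hdec v
      rw [map_add, map_smul, map_smul, hMl, hβ, zero_smul, smul_zero, zero_add, ← hαβ, hβ,
        zero_smul, add_zero, map_add, map_smul, map_smul, hNl, smul_zero, zero_add, ← hl,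
        smul_comm]
    rw [← hMeq]
    show φ a v = v + (φ a v - v)
    abel
  choose g hg using key
  have hle : Nat.card (Set.range φ) ≤ Nat.card K :=
    Nat.card_le_card_of_injective g fun x y e => Subtype.ext
      (AddMonoidHom.ext fun v => (hg x v).trans (by rw [e]; exact (hg y v).symm))
  have hq : Nat.card (Fin 2 → K) = Nat.card K * Nat.card K := by
    rw [Nat.card_eq_fintype_card, Nat.card_eq_fintype_card, Fintype.card_fun, Fintype.card_fin, sq]
  have h1 : 1 < Nat.card K := Finite.one_lt_card
  rw [hq] at hge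
  have : Nat.card K * 1 < Nat.card K * Nat.card K := Nat.mul_lt_mul_of_pos_left h1 (by omega)
  omega

end Plane

set_option maxHeartbeats 1000000 in
/-- A map of the even vectors commuting with the alternating group is trivial. -/
theorem alt_commute {n : ℕ} (hn : 5 ≤ n) (hodd : Odd n)
    (f : (Fin n → ZMod 2) → (Fin n → ZMod 2))
    (hev : ∀ v, ∑ i, v i = 0 → ∑ i, f v i = 0)
    (hadd : ∀ v w, ∑ i, v i = 0 → ∑ i, w i = 0 → f (v + w) = f v + f w)
    (hinj : ∀ v w, ∑ i, v i = 0 → ∑ i, w i = 0 → f v = f w → v = w)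
    (hcom : ∀ τ : Equiv.Perm (Fin n), Equiv.Perm.sign τ = 1 → ∀ v, ∑ i, v i = 0 →
      ∀ i, f (fun k => v (τ.symm k)) i = f v (τ.symm i))
    (v : Fin n → ZMod 2) (hv : ∑ i, v i = 0) : f v = v := by
  classical
  have hf0 : f 0 = 0 := by
    have h := hadd 0 0 (by simp) (by simp)
    rw [add_zero] at h
    exact add_left_cancel (a := f 0) (by rw [add_zero]; exact h.symm)
  let pr : Fin n → Fin n → (Fin n → ZMod 2) := fun i j => Pi.single i 1 + Pi.single j 1
  have hpr : ∀ i j, ∑ k, pr i j k = 0 := fun i j => by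
    simp [pr, Finset.sum_add_distrib, CharTwo.add_self_eq_zero]
  have key : ∀ i j, i ≠ j → f (pr i j) = pr i j := by
    intro i j hij
    have hfix : ∀ τ : Equiv.Perm (Fin n), Equiv.Perm.sign τ = 1 → (∀ k, pr i j (τ.symm k) = pr i j k) →
        ∀ k, f (pr i j) (τ.symm k) = f (pr i j) k := fun τ hτ hp k => by
      rw [← hcom τ hτ _ (hpr i j) k, show (fun k => pr i j (τ.symm k)) = pr i j from funext hp]
    have hout : ∀ k, k ≠ i → k ≠ j → pr i j k = 0 := fun k h1 h2 => by simp [pr, h1, h2]
    have hconst : ∀ k l, k ≠ i → k ≠ j → l ≠ i → l ≠ j → f (pr i j) k = f (pr i j) l := by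
      intro k l hki hkj hli hlj
      by_cases hkl : k = l
      · rw [hkl]
      obtain ⟨r, hr⟩ : ∃ r, r ∉ ({i, j, k, l} : Finset (Fin n)) := by
        by_contra h
        push Not at h
        have := Finset.card_le_card (s := (Finset.univ : Finset (Fin n))) (fun x _ => h x)
        have := Finset.card_le_four (a := i) (b := j) (c := k) (d := l)
        simp only [Finset.card_univ, Fintype.card_fin] at *
        omega
      simp only [Finset.mem_insert, Finset.mem_singleton, not_or] at hr
      obtain ⟨hri, hrj, hrk, hrl⟩ := hr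
      let τ := Equiv.swap k r * Equiv.swap k l
      have hτ : Equiv.Perm.sign τ = 1 := by
        simp [τ, Equiv.Perm.sign_swap (Ne.symm hrk), Equiv.Perm.sign_swap hkl]
      have hsymm : ∀ x, τ.symm x = Equiv.swap k l (Equiv.swap k r x) := fun x => rfl
      have h1 := hfix τ hτ (fun x => by
        rw [hsymm]
        by_cases hxi : x = i
        · subst hxi
          rw [Equiv.swap_apply_of_ne_of_ne (Ne.symm hki) (Ne.symm hri),
            Equiv.swap_apply_of_ne_of_ne (Ne.symm hki) (Ne.symm hli)]
        by_cases hxj : x = j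
        · subst hxj
          rw [Equiv.swap_apply_of_ne_of_ne (Ne.symm hkj) (Ne.symm hrj),
            Equiv.swap_apply_of_ne_of_ne (Ne.symm hkj) (Ne.symm hlj)]
        rw [hout x hxi hxj]
        apply hout <;>
          (simp only [Equiv.swap_apply_def]; split_ifs <;> simp_all))
      have h2 := h1 r
      rw [hsymm, Equiv.swap_apply_right, Equiv.swap_apply_left] at h2
      have h3 := h1 l
      rw [hsymm, Equiv.swap_apply_of_ne_of_ne (Ne.symm hkl) (Ne.symm hrl),
        Equiv.swap_apply_right] at h3
      exact h3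
    obtain ⟨k, hk⟩ : ∃ k, k ∉ ({i, j} : Finset (Fin n)) := by
      by_contra h
      push Not at h
      have := Finset.card_le_card (s := (Finset.univ : Finset (Fin n))) (fun x _ => h x)
      have := Finset.card_le_two (a := i) (b := j)
      simp only [Finset.card_univ, Fintype.card_fin] at *
      omega
    obtain ⟨l, hl⟩ : ∃ l, l ∉ ({i, j, k} : Finset (Fin n)) := by
      by_contra h
      push Not at h
      have := Finset.card_le_card (s := (Finset.univ : Finset (Fin n))) (fun x _ => h x)
      have := Finset.card_le_three (a := i) (b := j) (c := k)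
      simp only [Finset.card_univ, Fintype.card_fin] at *
      omega
    simp only [Finset.mem_insert, Finset.mem_singleton, not_or] at hk hl
    let τ := Equiv.swap i j * Equiv.swap k l
    have hτ : Equiv.Perm.sign τ = 1 := by
      simp [τ, Equiv.Perm.sign_swap hij, Equiv.Perm.sign_swap (Ne.symm hl.2.2)]
    have hsymm : ∀ x, τ.symm x = Equiv.swap k l (Equiv.swap i j x) := fun x => rfl
    have hab : f (pr i j) i = f (pr i j) j := by
      have h1 := hfix τ hτ (fun x => by
        rw [hsymm]
        by_cases hxi : x = i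
        · subst hxi
          rw [Equiv.swap_apply_left, Equiv.swap_apply_of_ne_of_ne (Ne.symm hk.2) (Ne.symm hl.2.1)]
          simp [pr, hij, Ne.symm hij]
        by_cases hxj : x = j
        · subst hxj
          rw [Equiv.swap_apply_right, Equiv.swap_apply_of_ne_of_ne (Ne.symm hk.1) (Ne.symm hl.1)]
          simp [pr, hij, Ne.symm hij]
        rw [hout x hxi hxj, Equiv.swap_apply_of_ne_of_ne hxi hxj]
        apply hout <;>
          (simp only [Equiv.swap_apply_def]; split_ifs <;> simp_all)) j
      rw [hsymm, Equiv.swap_apply_right,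
        Equiv.swap_apply_of_ne_of_ne (Ne.symm hk.1) (Ne.symm hl.1)] at h1
      exact h1
    -- the common value outside is zero
    set c := f (pr i j) k with hc
    have hval : ∀ x, f (pr i j) x = c + (if x = i ∨ x = j then f (pr i j) i - c else 0) := by
      intro x
      by_cases hx : x = i ∨ x = j
      · rw [if_pos hx, add_sub_cancel]
        rcases hx with rfl | rfl
        · rfl
        · exact hab.symm
      · rw [if_neg hx, add_zero]
        push Not at hx
        exact hconst x k hx.1 hx.2 hk.1 hk.2
    have hsum := hev _ (hpr i j)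
    rw [Finset.sum_congr rfl fun x _ => hval x, Finset.sum_add_distrib, Finset.sum_ite,
      Finset.sum_const_zero, add_zero, Finset.sum_const, Finset.sum_const] at hsum
    have hcard : (Finset.univ.filter fun x => x = i ∨ x = j).card = 2 := by
      rw [show (Finset.univ.filter fun x => x = i ∨ x = j) = {i, j} by ext; simp,
        Finset.card_pair hij]
    rw [hcard, Finset.card_univ, Fintype.card_fin, nsmul_eq_mul, nsmul_eq_mul,
      show ((n : ℕ) : ZMod 2) = 1 from ZMod.natCast_eq_one_iff_odd.2 hodd, one_mul] at hsum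
    have hc0 : c = 0 := by
      rwa [show ((2 : ℕ) : ZMod 2) = 0 from rfl, zero_mul, add_zero] at hsum
    have hne : f (pr i j) ≠ 0 := fun e => by
      have := hinj (pr i j) 0 (hpr i j) (by simp) (e.trans hf0.symm)
      simpa [pr, hij] using congrFun this i
    have ha : f (pr i j) i = 1 := by
      by_contra ha
      have ha0 : f (pr i j) i = 0 := by
        revert ha; generalize f (pr i j) i = t; revert t; decide
      refine hne (funext fun x => ?_)
      rw [hval x, hc0, ha0]
      simp
    funext x
    rw [hval x, hc0, ha]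
    by_cases hxi : x = i
    · subst hxi; simp [pr, hij]
    by_cases hxj : x = j
    · subst hxj; simp [pr, hxi]
    simp [pr, hxi, hxj]
  have i0 : Fin n := ⟨0, by omega⟩
  have hdec : v = ∑ k, (if v k = 1 ∧ k ≠ i0 then pr k i0 else 0) := by
    have hz : ∀ t : ZMod 2, t = 0 ∨ t = 1 := by decide
    have e : ∀ k, (if v k = 1 ∧ k ≠ i0 then pr k i0 else 0) =
        v k • (Pi.single k (1 : ZMod 2) + Pi.single i0 1) := fun k => by
      by_cases hk : k = i0
      · subst hk
        rw [if_neg (fun h => h.2 rfl)]
        funext x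
        simp [CharTwo.add_self_eq_zero]
      · rcases hz (v k) with h | h <;> simp [h, hk, pr]
    rw [Finset.sum_congr rfl fun k _ => e k]
    simp only [smul_add, Finset.sum_add_distrib, ← Finset.sum_smul, hv, zero_smul, add_zero]
    funext x
    simp [Finset.sum_apply, Pi.single_apply]
  have hsum : ∀ s : Finset (Fin n), f (∑ k ∈ s, (if v k = 1 ∧ k ≠ i0 then pr k i0 else 0)) =
      ∑ k ∈ s, (if v k = 1 ∧ k ≠ i0 then pr k i0 else 0) := by
    intro s
    induction s using Finset.induction_on with
    | empty => simpa using hf0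
    | insert a s ha ih =>
      have hone : ∀ k, ∑ x, (if v k = 1 ∧ k ≠ i0 then pr k i0 else 0) x = 0 := fun k => by
        split_ifs
        · exact hpr k i0
        · simp
      rw [Finset.sum_insert ha, hadd _ _ (hone a), ih]
      · congr 1
        split_ifs with h
        · exact key a i0 h.2
        · exact hf0
      · simp only [Finset.sum_apply]
        rw [Finset.sum_comm]
        exact Finset.sum_eq_zero fun k _ => hone k
  rw [hdec]
  exact hsum _

end Cfsg.Lib.Local.SubBlock
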