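import Cfsg.Agent.Lib.Local.BlockLarge
import Cfsg.Agent.Lib.Local.SubBlock.Models

/-!
# The natural sections of a block

For an arbitrary block: `[V, E] ≤ W_E`, the sections as planes or even permutation modules with
kernel exactly `O_p(E)`, and the action of the normalizer of the block on them.
-/

set_option autoImplicit false
set_option linter.style.haveILetI false

namespace Cfsg.Lib.Local.SubBlock

open Subgroup Cfsg Cfsg.Lib Cfsg.Lib.Local.GlaubermanZJ Cfsg.Lib.Local.BaumannBlock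
  Cfsg.Lib.Local.BlockLevels Cfsg.Lib.Local.BlockSmall
open scoped commutatorElement MatrixGroups

universe u

variable {G : Type u} [Group G] {p : ℕ}

/-! ### The alternating group of degree three -/

/-- The first two coordinates. -/
def plA : (Fin (2 * 1 + 1) → ZMod 2) →+ (Fin 2 → ZMod 2) where
  toFun v := ![v 0, v 1]
  map_zero' := by ext i; fin_cases i <;> simp
  map_add' v w := by ext i; fin_cases i <;> simp

/-- The matrix of a permutation of three letters. -/
def matA (σ : Equiv.Perm (Fin (2 * 1 + 1))) : Matrix (Fin 2) (Fin 2) (ZMod 2) :=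
  Matrix.of fun i j => plA (fun k => (![![1, 0, 1], ![0, 1, 1]] j : Fin 3 → ZMod 2) (σ.symm k)) i

theorem matA_det : ∀ σ : ↥(alternatingGroup (Fin (2 * 1 + 1))), (matA σ).det = 1 := by decide +kernel

/-- `A₃` in `SL₂(2)`. -/
def MA : ↥(alternatingGroup (Fin (2 * 1 + 1))) →* SL(2, ZMod 2) where
  toFun σ := ⟨matA σ, matA_det σ⟩
  map_one' := Subtype.ext (by decide +kernel)
  map_mul' σ τ := Subtype.ext (by revert σ τ; decide +kernel)

theorem plA_equiv : ∀ σ : ↥(alternatingGroup (Fin (2 * 1 + 1))), ∀ v : Fin (2 * 1 + 1) → ZMod 2,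
    ∑ i, v i = 0 → plA (fun k => v ((σ : Equiv.Perm (Fin (2 * 1 + 1))).symm k)) =
      Matrix.mulVec (matA σ) (plA v) := by decide +kernel

theorem plA_surj : ∀ x : Fin 2 → ZMod 2, ∃ v : Fin (2 * 1 + 1) → ZMod 2, ∑ i, v i = 0 ∧ plA v = x := by
  decide +kernel

theorem plA_inj : ∀ v : Fin (2 * 1 + 1) → ZMod 2, ∑ i, v i = 0 → plA v = 0 → v = 0 := by
  decide +kernel

theorem MA_inj : ∀ a b, MA a = MA b → a = b := by decide +kernel

theorem mem_threeCyc_iff : ∀ g : SL(2, ZMod 2), g ∈ BlockType.threeCyc ↔ ∃ σ, MA σ = g := by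
  decide +kernel

theorem conj_mem_commutator {X Y : Subgroup G} {g : G} (hX : g ∈ normalizer (X : Set G))
    (hY : g ∈ normalizer (Y : Set G)) {z : G} (hz : z ∈ ⁅X, Y⁆) : g * z * g⁻¹ ∈ ⁅X, Y⁆ := by
  have h1 : (⁅X, Y⁆).map (MulAut.conj g).toMonoidHom = ⁅X, Y⁆ := by
    rw [map_commutator, Core.map_conj_eq_of_mem_normalizer hX, Core.map_conj_eq_of_mem_normalizer hY]
  exact h1.le ⟨z, hz, rfl⟩

theorem normalizer_commutator {X Y : Subgroup G} :
    normalizer (X : Set G) ⊓ normalizer (Y : Set G) ≤ normalizer ((⁅X, Y⁆ : Subgroup G) : Set G) :=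
  Core.le_normalizer_iff_conj_mem.2 fun _ hg _ hz => conj_mem_commutator hg.1 hg.2 hz

theorem commutator_le_left' {X E : Subgroup G} (hE : E ≤ normalizer (X : Set G)) : ⁅X, E⁆ ≤ X := by
  rw [commutator_le]
  intro x hx e he
  rw [commutatorElement_def, show x * e * x⁻¹ * e⁻¹ = x * (e * x⁻¹ * e⁻¹) by group]
  exact mul_mem hx ((mem_normalizer_iff.1 (hE he) _).1 (inv_mem hx))

/-- `[X, E] ≤ Y` if `E = O^p(E)` and its `p'`-elements move `X` into the invariant `Y`. -/
theorem commutator_le_of_coprime {X E Y : Subgroup G} (hres : pResidualOf p E = E)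
    (hY : E ≤ normalizer (Y : Set G))
    (h : ∀ e ∈ E, (orderOf e).Coprime p → ∀ x ∈ X, ⁅x, e⁆ ∈ Y) : ⁅X, E⁆ ≤ Y := by
  let H : Subgroup G :=
    { carrier := {e | e ∈ E ∧ ∀ x ∈ X, ⁅x, e⁆ ∈ Y}
      one_mem' := ⟨one_mem _, fun x _ => by simp⟩
      mul_mem' := by
        rintro a b ⟨ha, ha'⟩ ⟨hb, hb'⟩
        refine ⟨mul_mem ha hb, fun x hx => ?_⟩
        rw [show ⁅x, a * b⁆ = ⁅x, a⁆ * (a * ⁅x, b⁆ * a⁻¹) by simp [commutatorElement_def]; group]
        exact mul_mem (ha' x hx) ((mem_normalizer_iff.1 (hY ha) _).1 (hb' x hx))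
      inv_mem' := by
        rintro a ⟨ha, ha'⟩
        refine ⟨inv_mem ha, fun x hx => ?_⟩
        rw [show ⁅x, a⁻¹⁆ = a⁻¹ * ⁅x, a⁆⁻¹ * a⁻¹⁻¹ by simp [commutatorElement_def]; group]
        exact (mem_normalizer_iff.1 (hY (inv_mem ha)) _).1 (inv_mem (ha' x hx)) }
  have hle : E ≤ H := hres.ge.trans (pResidualOf_le_iff.2 fun e he hc => ⟨he, h e he hc⟩)
  exact commutator_le.2 fun x hx e he => (hle he).2 x hx

variable [Finite G] [hp : Fact p.Prime]

/-- `[X, E, E] = [X, E]` for a `p`-group `X`. -/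
theorem commutator_idem {X E : Subgroup G} (hX : IsPGroup p X) (hEX : E ≤ normalizer (X : Set G))
    (hres : pResidualOf p E = E) : ⁅⁅X, E⁆, E⁆ = ⁅X, E⁆ := by
  have hXE : E ≤ normalizer ((⁅X, E⁆ : Subgroup G) : Set G) :=
    (le_inf hEX le_normalizer).trans normalizer_commutator
  refine le_antisymm (commutator_le_left' hXE) (commutator_le_of_coprime hres
    ((le_inf hXE le_normalizer).trans normalizer_commutator) fun e he hc x hx => ?_)
  have hz : zpowers e ≤ E := zpowers_le.2 he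
  have h1 := Coprime.commutator_commutator_eq (G := X) (A := zpowers e) (hz.trans hEX)
    (coprime_card_zpowers hX hc) (Or.inl (isSolvable_zpowers e))
  exact commutator_mono (commutator_mono le_rfl hz) hz
    (h1.ge (commutator_mem_commutator hx (mem_zpowers e)))

variable {S : Sylow p G} {E : Subgroup G}

theorem block_facts (E : Subgroup G) :
    normalizer (E : Set G) ≤ normalizer (pCoreOf p E : Set G) ∧
    normalizer (E : Set G) ≤ normalizer (omegaOneCenter p (pCoreOf p E) : Set G) ∧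
    normalizer (E : Set G) ≤ normalizer (zMod p E : Set G) := by
  have h1 := Local.normalizer_le_normalizer_pCoreOf (p := p) E
  have h2 := h1.trans (normalizer_le_omegaOneCenter (p := p) _)
  exact ⟨h1, h2, fun g hg => Local.mem_normalizer_inf (h2 hg)
    (Local.normalizer_le_normalizer_centralizer E hg)⟩

theorem w0_isPGroup (E : Subgroup G) : IsPGroup p (omegaOneCenter p (pCoreOf p E)) :=
  (Local.pCoreOf_isPGroup E).to_le (omegaOneCenter_le p _)

/-- An `E`-invariant subgroup of `Q` lies in `W₀` or covers `Q / W₀`. -/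
theorem le_w0_or_sup (hE : IsBaumannBlock p (S : Subgroup G) E) {X : Subgroup G}
    (hX : X ≤ pCoreOf p E) (hEX : E ≤ normalizer (X : Set G)) :
    X ≤ omegaOneCenter p (pCoreOf p E) ∨ X ⊔ omegaOneCenter p (pCoreOf p E) = pCoreOf p E := by
  set W0 := omegaOneCenter p (pCoreOf p E) with hW0
  by_cases hne : pCoreOf p E = W0
  · exact Or.inl (hX.trans hne.le)
  rcases hE.2.2.2.2 with ⟨K, _, _, n, hK, -, -, hQ⟩ | ⟨-, -, -, -, hQ⟩
  swap
  · exact absurd hQ hne
  obtain ⟨-, hsec, -⟩ := hQ.resolve_left hne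
  have hEW : E ≤ normalizer (W0 : Set G) := le_normalizer.trans (block_facts E).2.1
  rcases BlockLarge.sl_irreducible hK hsec (X ⊔ W0) le_sup_right
    (sup_le hX (omegaOneCenter_le p _)) (fun e he => by
      rw [mem_normalizer_iff_map_conj_eq]
      show (X ⊔ W0).map (MulAut.conj e).toMonoidHom = X ⊔ W0
      rw [Subgroup.map_sup, Core.map_conj_eq_of_mem_normalizer (hEX he),
        Core.map_conj_eq_of_mem_normalizer (hEW he)]) with h | h
  · exact Or.inl (le_sup_left.trans h.le)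
  · exact Or.inr h

/-- `[V, E] ≤ W_E`. -/
theorem commutator_vLevel_le (hE : IsBaumannBlock p (S : Subgroup G) E) :
    ⁅vLevel p G, E⁆ ≤ wMod p E := by
  set V := vLevel p G with hV
  set Q := pCoreOf p E with hQdef
  have hPE := pCore_le_normalizer S hE
  have hEV : E ≤ normalizer (V : Set G) := Local.le_normalizer_normal E
  have hVp : IsPGroup p V := (Core.pCore_isPGroup p G).to_le (vLevel_le p G)
  have hVE : V ≤ normalizer (E : Set G) := (vLevel_le p G).trans hPE
  have hXV : ⁅V, E⁆ ≤ V := commutator_le_left' hEV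
  have hXE : ⁅V, E⁆ ≤ E := by
    rw [commutator_comm]; exact commutator_le_left' hVE
  have hEX : E ≤ normalizer ((⁅V, E⁆ : Subgroup G) : Set G) :=
    (le_inf hEV le_normalizer).trans normalizer_commutator
  have hXQ : ⁅V, E⁆ ≤ Q := Local.le_pCoreOf hXE hEX (hVp.to_le hXV)
  have hXW : ⁅V, E⁆ ≤ omegaOneCenter p Q := by
    rcases le_w0_or_sup hE hXQ hEX with h | h
    · exact h
    by_cases hne : Q = omegaOneCenter p Q
    · exact hXQ.trans hne.le
    rcases hE.2.2.2.2 with ⟨K, _, _, n, hK, -, -, hQ⟩ | ⟨-, -, -, -, hQ⟩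
    swap
    · exact absurd hQ hne
    obtain ⟨-, -, hQQ, -, hZE, hcard, -⟩ := hQ.resolve_left hne
    exfalso
    have hab : ⁅Q, Q⁆ = ⊥ := by
      rw [commutator_eq_bot_iff_le_centralizer]
      conv_lhs => rw [show Q = ⁅V, E⁆ ⊔ omegaOneCenter p Q from h.symm]
      refine sup_le (fun x hx => mem_centralizer_iff.2 fun y hy => ?_)
        (fun x hx => mem_centralizer_iff.2 fun y hy => (omegaOneCenter_commute hx hy).symm.eq)
      have hy' : y ∈ ⁅V, E⁆ ⊔ omegaOneCenter p Q := h.ge hy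
      refine (mem_centralizer_singleton_iff.1 ?_)
      refine (sup_le (fun z hz => mem_centralizer_singleton_iff.2 ?_)
        (fun z hz => mem_centralizer_singleton_iff.2 ?_) :
          ⁅V, E⁆ ⊔ omegaOneCenter p Q ≤ centralizer ({x} : Set G)) hy'
      · exact (omegaOneCenter_commute (hXV hx) (vLevel_le p G (hXV hz))).symm.eq
      · exact (omegaOneCenter_commute hz (hXQ hx)).eq
    rw [hZE, ← hQQ, show ⁅pCoreOf p E, pCoreOf p E⁆ = ⊥ from hab, Subgroup.card_bot] at hcard
    rcases Nat.eq_zero_or_pos n with hn | hn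
    · rw [hn, pow_zero] at hK
      have := Fintype.one_lt_card (α := K)
      omega
    · have : 3 ^ 1 ≤ 3 ^ n := Nat.pow_le_pow_right (by norm_num) hn
      omega
  exact (commutator_idem hVp hEV hE.1).ge.trans (commutator_mono hXW le_rfl)

theorem wMod_le (E : Subgroup G) : wMod p E ≤ omegaOneCenter p (pCoreOf p E) :=
  commutator_le_left' (le_normalizer.trans (block_facts E).2.1)

theorem wMod_idem (hE : IsBaumannBlock p (S : Subgroup G) E) : ⁅wMod p E, E⁆ = wMod p E :=
  commutator_idem (w0_isPGroup E) (le_normalizer.trans (block_facts E).2.1) hE.1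

theorem wMod_le_vLevel (hG : centralizer (pCore p G : Set G) ≤ pCore p G)
    (hE : IsBaumannBlock p (S : Subgroup G) E) : wMod p E ≤ vLevel p G := module_le hG S hE

theorem commutator_vLevel_eq (hG : centralizer (pCore p G : Set G) ≤ pCore p G)
    (hE : IsBaumannBlock p (S : Subgroup G) E) : ⁅vLevel p G, E⁆ = wMod p E :=
  le_antisymm (commutator_vLevel_le hE)
    ((wMod_idem hE).ge.trans (commutator_mono (wMod_le_vLevel hG hE) le_rfl))

/-- `W_E` is not fixed. -/
theorem wMod_not_central (hE : IsBaumannBlock p (S : Subgroup G) E) :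
    ¬ wMod p E ≤ centralizer (E : Set G) := by
  intro h
  have h1 : ⁅wMod p E, E⁆ = ⊥ := commutator_eq_bot_iff_le_centralizer.2 h
  rw [wMod_idem hE, wMod, commutator_eq_bot_iff_le_centralizer] at h1
  exact (irreducible hE).1 h1

/-- `E` acts faithfully modulo `O_p(E)` on an invariant proper part of `W₀`. -/
theorem invariant_le_zMod_or (hE : IsBaumannBlock p (S : Subgroup G) E) {U : Subgroup G}
    (hU : U ≤ omegaOneCenter p (pCoreOf p E)) (hEU : E ≤ normalizer (U : Set G)) :
    U ≤ centralizer (E : Set G) ∨ U ⊔ zMod p E = omegaOneCenter p (pCoreOf p E) := by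
  rcases (irreducible hE).2 (U ⊔ zMod p E) le_sup_right (sup_le hU inf_le_left) (fun e he => by
      rw [mem_normalizer_iff_map_conj_eq]
      show (U ⊔ zMod p E).map (MulAut.conj e).toMonoidHom = U ⊔ zMod p E
      rw [Subgroup.map_sup, Core.map_conj_eq_of_mem_normalizer (hEU he),
        Core.map_conj_eq_of_mem_normalizer ((block_facts E).2.2 (le_normalizer he))]) with h | h
  · exact Or.inl (le_sup_left.trans h)
  · exact Or.inr h

/-! ### The planes -/

/-- A section of a block which is a natural plane with kernel `O_p(E)`. -/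
structure Plane (p : ℕ) (K : Type) [Field K] [Fintype K] (E U U₀ : Subgroup G) where
  n : ℕ
  card : Fintype.card K = p ^ n
  nU : normalizer (E : Set G) ≤ normalizer (U : Set G)
  nU₀ : normalizer (E : Set G) ≤ normalizer (U₀ : Set G)
  le : U₀ ≤ U
  ρ : ↥E →* SL(2, K)
  ψ : ↥U →* Multiplicative (Fin 2 → K)
  range : ρ.range = commutator SL(2, K)
  surj : Function.Surjective ψ
  ker : ∀ u : ↥U, ψ u = 1 ↔ (u : G) ∈ U₀
  equiv : ∀ (e : ↥E) (u : ↥U), ∃ w : ↥U, (w : G) = (e : G) * (u : G) * (e : G)⁻¹ ∧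
    Multiplicative.toAdd (ψ w) =
      ((ρ e : SL(2, K)) : Matrix (Fin 2) (Fin 2) K).mulVec (Multiplicative.toAdd (ψ u))
  kerρ : ∀ e : ↥E, ρ e = 1 ↔ (e : G) ∈ pCoreOf p E

/-- A natural section on which `O_p(E)` is trivial is a plane. -/
theorem plane_of_acts {K : Type} [Field K] [Fintype K] {n : ℕ} (hK : Fintype.card K = p ^ n)
    {E U U₀ : Subgroup G} (hnU : normalizer (E : Set G) ≤ normalizer (U : Set G))
    (hnU₀ : normalizer (E : Set G) ≤ normalizer (U₀ : Set G))
    (e₀ : ↥E ⧸ pCore p ↥E ≃* ↥(commutator SL(2, K)))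
    (hsec : ActsAsSL2OnSection K (commutator SL(2, K)) E U U₀)
    (htriv : ∀ q ∈ pCoreOf p E, ∀ u ∈ U, ⁅q, u⁆ ∈ U₀) : Nonempty (Plane p K E U U₀) := by
  obtain ⟨-, hle, ρ, ψ, hρ, hψ, hker, hact⟩ := hsec
  classical
  have hle' : pCore p ↥E ≤ ρ.ker := by
    intro q hq
    refine Subtype.ext (Matrix.ext_of_mulVec_single fun i => ?_)
    obtain ⟨u, hu⟩ := hψ (Multiplicative.ofAdd (Pi.single i (1 : K)))
    obtain ⟨w, hw, hw'⟩ := hact q u
    have : ψ w = ψ u := by
      have h0 := (hker (w * u⁻¹)).2 (by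
        rw [Subgroup.coe_mul, InvMemClass.coe_inv, hw]
        exact htriv q ⟨q, hq, rfl⟩ u u.2)
      rwa [map_mul, map_inv, mul_inv_eq_one] at h0
    rw [this, hu] at hw'
    simpa [Matrix.col_def, Matrix.one_apply, Pi.single_apply, funext_iff, eq_comm (a := i)] using hw'.symm
  have hcard : Nat.card (↥E ⧸ ρ.ker) = Nat.card (↥E ⧸ pCore p ↥E) := by
    rw [Nat.card_congr e₀.toEquiv, ← hρ]
    exact Nat.card_congr (QuotientGroup.quotientKerEquivRange ρ).toEquiv
  have hkerQ : ρ.ker = pCore p ↥E := by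
    symm
    refine Subgroup.eq_of_le_of_card_ge hle' ?_
    have h1 := Subgroup.card_eq_card_quotient_mul_card_subgroup ρ.ker
    have h2 := Subgroup.card_eq_card_quotient_mul_card_subgroup (pCore p ↥E)
    rw [hcard] at h1
    exact (Nat.eq_of_mul_eq_mul_left Nat.card_pos (h1.symm.trans h2)).le
  refine ⟨⟨n, hK, hnU, hnU₀, hle, ρ, ψ, hρ, hψ, hker, hact, fun e => ?_⟩⟩
  rw [← MonoidHom.mem_ker, hkerQ, Local.mem_pCoreOf]
  exact ⟨fun h => ⟨e.2, h⟩, fun ⟨_, h⟩ => h⟩

namespace Plane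

variable {K : Type} [Field K] [Fintype K] {U U₀ : Subgroup G} (P : Plane p K E U U₀)

/-- Conjugation inside `U`. -/
def cj (g : normalizer (E : Set G)) (u : ↥U) : ↥U :=
  ⟨g * u * (g : G)⁻¹, (mem_normalizer_iff.1 (P.nU g.2) _).1 u.2⟩

/-- The coordinates of an element of `U`. -/
def co (u : ↥U) : Fin 2 → K := Multiplicative.toAdd (P.ψ u)

theorem co_mul (u v : ↥U) : P.co (u * v) = P.co u + P.co v := by simp [co]

theorem co_eq_zero {u : ↥U} : P.co u = 0 ↔ (u : G) ∈ U₀ := by
  rw [← P.ker u]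
  exact ⟨fun h => Multiplicative.toAdd.injective h, fun h => by simp [co, h]⟩

theorem cj_mul (g : normalizer (E : Set G)) (u v : ↥U) : P.cj g (u * v) = P.cj g u * P.cj g v :=
  Subtype.ext (by simp [cj, mul_assoc])

theorem co_cj_congr (g : normalizer (E : Set G)) {u v : ↥U} (h : P.co u = P.co v) :
    P.co (P.cj g u) = P.co (P.cj g v) := by
  have h1 : ((u * v⁻¹ : ↥U) : G) ∈ U₀ := P.co_eq_zero.1 (by simp [co] at h ⊢; rw [h]; exact add_neg_cancel _)
  have h2 : P.co (P.cj g (u * v⁻¹)) = 0 := P.co_eq_zero.2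
    ((mem_normalizer_iff.1 (P.nU₀ g.2) _).1 h1)
  have h3 := P.co_mul (P.cj g (u * v⁻¹)) (P.cj g v)
  rwa [← cj_mul, inv_mul_cancel_right, h2, zero_add] at h3

/-- A lift. -/
noncomputable def lift (v : Fin 2 → K) : ↥U :=
  Function.surjInv P.surj (Multiplicative.ofAdd v)

theorem co_lift (v : Fin 2 → K) : P.co (P.lift v) = v :=
  congrArg Multiplicative.toAdd (Function.surjInv_eq P.surj _)

/-- The action of the normalizer of the block on the plane. -/
noncomputable def act : normalizer (E : Set G) →* AddMonoid.End (Fin 2 → K) where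
  toFun g := AddMonoidHom.mk' (fun v => P.co (P.cj g (P.lift v))) fun v w => by
    rw [← P.co_mul, ← cj_mul]
    exact P.co_cj_congr g (by rw [co_lift, co_mul, co_lift, co_lift])
  map_one' := AddMonoidHom.ext fun v => by
    show P.co (P.cj 1 (P.lift v)) = v
    rw [show P.cj 1 (P.lift v) = P.lift v from Subtype.ext (by simp [cj]), co_lift]
  map_mul' g h := AddMonoidHom.ext fun v => by
    show P.co (P.cj (g * h) (P.lift v)) = P.co (P.cj g (P.lift (P.co (P.cj h (P.lift v)))))
    rw [P.co_cj_congr g (P.co_lift _)]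
    exact congrArg P.co (Subtype.ext (by simp [cj]; group))

theorem act_co (g : normalizer (E : Set G)) (u : ↥U) : P.act g (P.co u) = P.co (P.cj g u) :=
  P.co_cj_congr g (P.co_lift _)

theorem act_of_mem {g : normalizer (E : Set G)} (hg : (g : G) ∈ E) (v : Fin 2 → K) :
    P.act g v = ((P.ρ ⟨g, hg⟩ : SL(2, K)) : Matrix (Fin 2) (Fin 2) K).mulVec v := by
  conv_lhs => rw [← P.co_lift v, act_co]
  obtain ⟨w, hw, hw'⟩ := P.equiv ⟨g, hg⟩ (P.lift v)
  rw [show P.cj g (P.lift v) = w from Subtype.ext hw.symm]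
  exact hw'.trans (by rw [show Multiplicative.toAdd (P.ψ (P.lift v)) = v from P.co_lift v])

theorem act_eq_one_iff (g : normalizer (E : Set G)) :
    P.act g = 1 ↔ ∀ u ∈ U, ⁅(g : G), u⁆ ∈ U₀ := by
  constructor
  · intro h u hu
    have h1 := P.act_co g ⟨u, hu⟩
    rw [h] at h1
    have h2 : P.co (P.cj g ⟨u, hu⟩ * ⟨u, hu⟩⁻¹) = 0 := by
      have h3 : P.co ⟨u, hu⟩ = P.co (P.cj g ⟨u, hu⟩) := h1
      simp [co] at h3 ⊢
      rw [h3]; exact add_neg_cancel _
    simpa [cj, commutatorElement_def] using P.co_eq_zero.1 h2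
  · intro h
    refine AddMonoidHom.ext fun v => ?_
    show P.act g v = v
    conv_lhs => rw [← P.co_lift v, act_co]
    have h2 : P.co (P.cj g (P.lift v) * (P.lift v)⁻¹) = 0 := P.co_eq_zero.2 (by
      simpa [cj, commutatorElement_def] using h _ (P.lift v).2)
    conv_rhs => rw [← P.co_lift v]
    simp [co] at h2 ⊢
    exact (add_neg_eq_zero (G := Fin 2 → K)).1 h2

/-- Only `O_p(E)` is trivial on the plane. -/
theorem mem_pCoreOf_of_trivial (P : Plane p K E U U₀) {x : G} (hx : x ∈ E)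
    (h : ∀ u ∈ U, ⁅x, u⁆ ∈ U₀) :
    x ∈ pCoreOf p E := by
  have h1 : P.act ⟨x, le_normalizer hx⟩ = 1 := (P.act_eq_one_iff _).2 h
  refine (P.kerρ ⟨x, hx⟩).1 (Subtype.ext (Matrix.ext_of_mulVec_single fun i => ?_))
  have h2 := P.act_of_mem (g := ⟨x, le_normalizer hx⟩) hx (Pi.single i (1 : K))
  rw [h1] at h2
  rw [Matrix.SpecialLinearGroup.coe_one, Matrix.one_mulVec]
  exact h2.symm

theorem act_mem_pCoreOf {g : normalizer (E : Set G)} (hg : (g : G) ∈ pCoreOf p E) : P.act g = 1 := by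
  refine AddMonoidHom.ext fun v => ?_
  have hgE : (g : G) ∈ E := Local.pCoreOf_le E hg
  show P.act g v = v
  rw [P.act_of_mem hgE, (P.kerρ ⟨g, hgE⟩).2 hg, Matrix.SpecialLinearGroup.coe_one, Matrix.one_mulVec]

theorem prime_dvd (P : Plane p K E U U₀) : p ∣ Fintype.card K := by
  rw [P.card]
  refine dvd_pow_self p fun h => ?_
  have h1 := P.card
  rw [h, pow_zero] at h1
  have := Fintype.one_lt_card (α := K)
  omega

theorem charP (P : Plane p K E U U₀) : CharP K p := charP_of_card_eq_prime_pow P.card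

end Plane

/-- The types of a block: linear, or alternating of degree at least five. -/
theorem block_types (hE : IsBaumannBlock p (S : Subgroup G) E) :
    (∃ (K : Type) (_ : Field K) (_ : Fintype K),
      Nonempty (Plane p K E (omegaOneCenter p (pCoreOf p E)) (zMod p E)) ∧
      (pCoreOf p E ≠ omegaOneCenter p (pCoreOf p E) →
        p = 3 ∧ Nonempty (Plane p K E (pCoreOf p E) (omegaOneCenter p (pCoreOf p E))))) ∨
    (p = 2 ∧ pCoreOf p E = omegaOneCenter p (pCoreOf p E) ∧ ∃ m : ℕ, 2 ≤ m ∧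
      Nonempty (↥E ⧸ pCore p ↥E ≃* ↥(alternatingGroup (Fin (2 * m + 1)))) ∧
      ActsAsOddPermModuleOnSection (2 * m + 1) (alternatingGroup (Fin (2 * m + 1))) E
        (omegaOneCenter p (pCoreOf p E)) (zMod p E)) := by
  obtain ⟨f1, f2, f3⟩ := block_facts (p := p) E
  have htriv : ∀ q ∈ pCoreOf p E, ∀ u ∈ omegaOneCenter p (pCoreOf p E), ⁅q, u⁆ ∈ zMod p E :=
    fun q hq u hu => by
      rw [commutatorElement_eq_one_iff_mul_comm.2 (omegaOneCenter_commute hu hq).symm.eq]
      exact one_mem _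
  rcases hE.2.2.2.2 with ⟨K, iK, iK', n, hK, ⟨e⟩, hsec, hQ⟩ | ⟨rfl, m, ⟨e⟩, hsec, hQ⟩
  · refine Or.inl ⟨K, iK, iK', plane_of_acts hK f2 f3 e hsec htriv, fun hne => ?_⟩
    obtain ⟨hp3, hsec', hQQ, -⟩ := hQ.resolve_left hne
    exact ⟨hp3, plane_of_acts hK f1 f2 e hsec' fun q hq u hu =>
      (hQQ.le (commutator_mem_commutator hq hu)).1⟩
  · rcases (show m = 0 ∨ m = 1 ∨ 2 ≤ m by omega) with rfl | rfl | hm
    · exfalso
      apply not_isPGroup hE
      haveI : Subsingleton (Equiv.Perm (Fin (2 * 0 + 1))) :=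
        haveI : Subsingleton (Fin (2 * 0 + 1)) := Fin.subsingleton_one
        ⟨fun a b => Equiv.ext fun _ => Subsingleton.elim _ _⟩
      have htop : pCore 2 ↥E = ⊤ := eq_top_iff.2 fun x _ =>
        (QuotientGroup.eq_one_iff x).1 (e.injective (Subsingleton.elim _ _))
      have hp := Core.pCore_isPGroup 2 ↥E
      rw [htop] at hp
      exact hp.of_surjective (Subgroup.topEquiv : (⊤ : Subgroup E) ≃* E).toMonoidHom
        (Subgroup.topEquiv : (⊤ : Subgroup E) ≃* E).surjective
    · -- the alternating group of degree three is a plane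
      refine Or.inl ⟨ZMod 2, inferInstance, inferInstance, ?_, fun hne => absurd hQ hne⟩
      obtain ⟨hn, hle, ρ, ψ, hρ, heven, hsurj, hker, hact⟩ := hsec
      let ρ' : ↥E →* SL(2, ZMod 2) := MA.comp (ρ.codRestrict _ fun x => hρ.le ⟨x, rfl⟩)
      have hρ' : ρ'.range = commutator SL(2, ZMod 2) := by
        rw [BlockType.threeCyc_eq]
        ext g
        rw [mem_threeCyc_iff g]
        constructor
        · rintro ⟨x, rfl⟩; exact ⟨_, rfl⟩
        · rintro ⟨σ, rfl⟩
          obtain ⟨x, hx⟩ := hρ.ge σ.2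
          exact ⟨x, congrArg MA (Subtype.ext hx)⟩
      let ψ' : ↥(omegaOneCenter 2 (pCoreOf 2 E)) →* Multiplicative (Fin 2 → ZMod 2) :=
        (AddMonoidHom.toMultiplicative plA).comp ψ
      have hψ' : ∀ u, Multiplicative.toAdd (ψ' u) = plA (Multiplicative.toAdd (ψ u)) := fun u => rfl
      refine plane_of_acts (p := 2) (n := 1) (by simp [ZMod.card]) f2 f3 (e.trans ?_)
        ⟨hn, hle, ρ', ψ', hρ', ?_, ?_, ?_⟩ htriv
      · refine (MulEquiv.ofBijective (MA.codRestrict _ fun σ => ?_) ⟨fun a b h => ?_, fun g => ?_⟩)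
        · rw [BlockType.threeCyc_eq]; exact (mem_threeCyc_iff _).2 ⟨σ, rfl⟩
        · exact MA_inj a b (congrArg Subtype.val h)
        · obtain ⟨σ, hσ⟩ := (mem_threeCyc_iff _).1 (BlockType.threeCyc_eq.le g.2)
          exact ⟨σ, Subtype.ext hσ⟩
      · intro x
        obtain ⟨v, hv, hvx⟩ := plA_surj (Multiplicative.toAdd x)
        obtain ⟨u, hu⟩ := hsurj v hv
        exact ⟨u, Multiplicative.toAdd.injective (by rw [hψ', hu, hvx])⟩
      · intro u
        show ψ' u = 1 ↔ (u : G) ∈ omegaOneCenter 2 (pCoreOf 2 E) ⊓ centralizer (E : Set G)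
        rw [← hker u]
        constructor
        · intro h
          exact Multiplicative.toAdd.injective (plA_inj _ (heven u) (by rw [← hψ', h]; rfl))
        · intro h
          exact Multiplicative.toAdd.injective (by rw [hψ', h]; simp)
      · intro x u
        obtain ⟨w, hw, hw'⟩ := hact x u
        refine ⟨w, hw, ?_⟩
        rw [hψ', hψ', show Multiplicative.toAdd (ψ w) =
          fun k => Multiplicative.toAdd (ψ u) ((ρ x)⁻¹ k) from funext hw']
        exact plA_equiv (ρ.codRestrict _ (fun x => hρ.le ⟨x, rfl⟩) x) _ (heven u)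
    · exact Or.inr ⟨rfl, hQ, m, hm, ⟨e⟩, hsec⟩

/-- The kernel of the even permutation section. -/
theorem alt_faithful {m : ℕ} (hm : 1 ≤ m) {E U U₀ : Subgroup G}
    (e₀ : ↥E ⧸ pCore p ↥E ≃* ↥(alternatingGroup (Fin (2 * m + 1))))
    (hsec : ActsAsOddPermModuleOnSection (2 * m + 1) (alternatingGroup (Fin (2 * m + 1))) E U U₀)
    (htriv : ∀ q ∈ pCoreOf p E, ∀ u ∈ U, ⁅q, u⁆ ∈ U₀) {x : G} (hx : x ∈ E)
    (h : ∀ u ∈ U, ⁅x, u⁆ ∈ U₀) : x ∈ pCoreOf p E := by
  classical
  obtain ⟨-, -, ρ, ψ, hρ, heven, hsurj, hker, hact⟩ := hsec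
  have key : ∀ q : ↥E, (∀ u ∈ U, ⁅(q : G), u⁆ ∈ U₀) → ρ q = 1 := by
    intro q hq
    have h2 : ∀ i, (ρ q).symm i = i := fun i => by
      by_contra hne
      obtain ⟨k, hk⟩ : ∃ k, k ∉ ({i, (ρ q).symm i} : Finset (Fin (2 * m + 1))) := by
        by_contra hc
        push Not at hc
        have := Finset.card_le_card (s := (Finset.univ : Finset (Fin (2 * m + 1)))) (fun x _ => hc x)
        have := Finset.card_le_two (a := i) (b := (ρ q).symm i)
        simp only [Finset.card_univ, Fintype.card_fin] at *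
        omega
      simp only [Finset.mem_insert, Finset.mem_singleton, not_or] at hk
      obtain ⟨u, hu⟩ := hsurj (Pi.single i 1 + Pi.single k 1) (by
        simp [Finset.sum_add_distrib, CharTwo.add_self_eq_zero])
      obtain ⟨w, hw, hw'⟩ := hact q u
      have : ψ w = ψ u := by
        have h0 := (hker (w * u⁻¹)).2 (by
          rw [Subgroup.coe_mul, InvMemClass.coe_inv, hw]
          exact hq u u.2)
        rwa [map_mul, map_inv, mul_inv_eq_one] at h0
      have h3 := hw' i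
      rw [this, hu] at h3
      simp [Pi.single_apply, Ne.symm hk.1, hne, Ne.symm hk.2] at h3
    exact Equiv.ext fun i => by simpa using (congrArg (ρ q) (h2 i)).symm
  have hle : pCore p ↥E ≤ ρ.ker := fun q hq => key q fun u hu => htriv q ⟨q, hq, rfl⟩ u hu
  have hkerQ : ρ.ker = pCore p ↥E := by
    symm
    refine Subgroup.eq_of_le_of_card_ge hle ?_
    have h1 := Subgroup.card_eq_card_quotient_mul_card_subgroup ρ.ker
    have h2 := Subgroup.card_eq_card_quotient_mul_card_subgroup (pCore p ↥E)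
    rw [Nat.card_congr (QuotientGroup.quotientKerEquivRange ρ).toEquiv, hρ,
      ← Nat.card_congr e₀.toEquiv] at h1
    exact (Nat.eq_of_mul_eq_mul_left Nat.card_pos (h1.symm.trans h2)).le
  exact ⟨⟨x, hx⟩, hkerQ.le (key ⟨x, hx⟩ h), rfl⟩

/-- An element of `E` trivial on `W₀ / Z` lies in `O_p(E)`. -/
theorem mem_pCoreOf_of_trivial (hE : IsBaumannBlock p (S : Subgroup G) E) {x : G} (hx : x ∈ E)
    (h : ∀ u ∈ omegaOneCenter p (pCoreOf p E), ⁅x, u⁆ ∈ zMod p E) : x ∈ pCoreOf p E := by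
  rcases block_types hE with ⟨K, _, _, ⟨P⟩, -⟩ | ⟨-, -, m, hm, ⟨e⟩, hsec⟩
  · exact P.mem_pCoreOf_of_trivial hx h
  · refine alt_faithful (by omega) e hsec (fun q hq u hu => ?_) hx h
    rw [commutatorElement_eq_one_iff_mul_comm.2 (omegaOneCenter_commute hu hq).symm.eq]
    exact one_mem _

end Cfsg.Lib.Local.SubBlock
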